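import Cfsg.Agent.Lib.Fusion.GlaubermanThompson
import Cfsg.Agent.Lib.FGS73.MaximalNilpotent
import Cfsg.Agent.Lib.Char.Burnside

/-!
Splitting automorphisms of prime order (Kegel) and Hughes subgroups (Hughes–Thompson), by the
norm identity `1 + u + ⋯ + u^(p-1) = 0` on abelian sections.
-/

set_option autoImplicit false
set_option linter.style.haveILetI false

open scoped Pointwise IsMulCommutative

namespace CfsgLib.Hughes

universe u

variable {G : Type u} [Group G]

/-- `(v * u) ^ j` as a product of conjugates. -/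
theorem mul_pow_eq_prod {V : Subgroup G} [V.Normal] [IsMulCommutative V] (v : V) (u : G) (j : ℕ) :
    ((v : G) * u) ^ j =
      ((∏ i ∈ Finset.range j, MulAut.conjNormal (u ^ i) v : V) : G) * u ^ j := by
  induction j with
  | zero => simp
  | succ j ih =>
    rw [pow_succ, ih, Finset.prod_range_succ, Subgroup.coe_mul, MulAut.conjNormal_apply, pow_succ]
    simp [mul_assoc]

variable [Finite G]

/-- If all elements outside `H` have order dividing the prime `p`, a subgroup of `H` normalized by
such an element fixes the elements of coprime order of every abelian normal subgroup in `H`. -/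
theorem commute_of_coprime {p : ℕ} [hp : Fact p.Prime] {H : Subgroup G}
    (hout : ∀ x ∉ H, x ^ p = 1) {V : Subgroup G} [V.Normal] [IsMulCommutative V] (hVH : V ≤ H)
    {K : Subgroup G} (hKH : K ≤ H) {u : G} (huH : u ∉ H)
    (huK : u ∈ Subgroup.normalizer (K : Set G)) {v : G} (hv : v ∈ V)
    (hcop : (orderOf v).Coprime (Nat.card K)) {k : G} (hk : k ∈ K) : k * v = v * k := by
  classical
  cases nonempty_fintype K
  have hone : ∀ w : G, w ∉ H → ∏ i ∈ Finset.range p, MulAut.conjNormal (w ^ i) (⟨v, hv⟩ : V) = 1 := by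
    intro w hw
    have h1 : (v * w) ^ p = 1 := hout _ fun h => hw ((H.mul_mem_cancel_left (hVH hv)).mp h)
    rw [mul_pow_eq_prod (⟨v, hv⟩ : V) w p, hout w hw, mul_one] at h1
    exact Subtype.ext h1
  have hup : u ^ p = 1 := hout u huH
  have hkuH : ∀ k ∈ K, k * u ∉ H := fun k hk h => huH ((H.mul_mem_cancel_left (hKH hk)).mp h)
  have hmem : ∀ (k : K) (i : ℕ), ((k : G) * u) ^ i * (u ^ i)⁻¹ ∈ K := by
    intro k i
    induction i with
    | zero => simp
    | succ i ih =>
      have h1 : u ^ i * (k : G) * (u ^ i)⁻¹ ∈ K :=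
        (Subgroup.mem_normalizer_iff.mp (pow_mem huK i) k).mp k.2
      have h2 := mul_mem ih h1
      have h3 : ((k : G) * u) ^ i * (u ^ i)⁻¹ * (u ^ i * (k : G) * (u ^ i)⁻¹) =
          ((k : G) * u) ^ (i + 1) * (u ^ (i + 1))⁻¹ := by
        rw [pow_succ ((k : G) * u), pow_succ u, mul_inv_rev]
        simp [mul_assoc]
      rwa [h3] at h2
  have hreindex : ∀ i ∈ (Finset.range p).erase 0,
      ∏ k : K, MulAut.conjNormal (((k : G) * u) ^ i) (⟨v, hv⟩ : V) =
        ∏ k : K, MulAut.conjNormal ((k : G) * u ^ i) (⟨v, hv⟩ : V) := by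
    intro i hi
    obtain ⟨hi0, hip⟩ := Finset.mem_erase.mp hi
    rw [Finset.mem_range] at hip
    let f : K → K := fun k => ⟨_, hmem k i⟩
    have hcp : i.Coprime p :=
      ((hp.out.coprime_iff_not_dvd).mpr fun h => absurd (Nat.le_of_dvd (Nat.pos_of_ne_zero hi0) h) (by omega)).symm
    have hinj : Function.Injective f := by
      intro a b hab
      have h : ((a : G) * u) ^ i = ((b : G) * u) ^ i := mul_right_cancel (congrArg Subtype.val hab)
      obtain ⟨j, -, hj⟩ := Nat.exists_mul_mod_eq_one_of_coprime hcp hp.out.one_lt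
      have hpow : ∀ w : G, w ^ p = 1 → (w ^ i) ^ j = w := by
        intro w hw
        rw [← pow_mul, ← Nat.div_add_mod (i * j) p, pow_add, pow_mul, hw, one_pow, one_mul, hj,
          pow_one]
      have := congrArg (· ^ j) h
      simp only [hpow _ (hout _ (hkuH _ a.2)), hpow _ (hout _ (hkuH _ b.2))] at this
      exact Subtype.ext (mul_right_cancel this)
    refine Fintype.prod_equiv (Equiv.ofBijective f ⟨hinj, Finite.injective_iff_surjective.mp hinj⟩)
      _ _ fun k => ?_
    have hfk : ((Equiv.ofBijective f ⟨hinj, Finite.injective_iff_surjective.mp hinj⟩ k : K) : G) *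
        u ^ i = ((k : G) * u) ^ i := inv_mul_cancel_right _ _
    rw [hfk]
  have h0 : (0 : ℕ) ∈ Finset.range p := Finset.mem_range.mpr hp.out.pos
  have hA : ∏ i ∈ Finset.range p, ∏ k : K, MulAut.conjNormal (((k : G) * u) ^ i) (⟨v, hv⟩ : V) = 1 := by
    rw [Finset.prod_comm]
    exact Finset.prod_eq_one fun k _ => hone _ (hkuH _ k.2)
  have hB : ∏ i ∈ Finset.range p, ∏ k : K, MulAut.conjNormal ((k : G) * u ^ i) (⟨v, hv⟩ : V) = 1 := by
    rw [Finset.prod_comm]
    refine Finset.prod_eq_one fun k _ => ?_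
    simp only [map_mul, MulAut.mul_apply]
    rw [← map_prod (MulAut.conjNormal (k : G)), hone u huH, map_one]
  rw [← Finset.mul_prod_erase _ _ h0, Finset.prod_congr rfl hreindex] at hA
  rw [← Finset.mul_prod_erase _ _ h0] at hB
  have hC := mul_right_cancel (hA.trans hB.symm)
  simp only [pow_zero, mul_one, map_one, MulAut.one_apply, Finset.prod_const, Finset.card_univ] at hC
  -- the product over `K` is fixed by `K`
  set w : V := ⟨v, hv⟩ with hw
  have hfix : MulAut.conjNormal k (w ^ Fintype.card K) = w ^ Fintype.card K := by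
    rw [hC, map_prod]
    refine Fintype.prod_equiv (Equiv.mulLeft ⟨k, hk⟩) _ _ fun a => ?_
    simp [MulAut.mul_apply, map_mul]
  rw [map_pow] at hfix
  have hord : orderOf w = orderOf v := by rw [← Subgroup.orderOf_coe]
  have hcw : (Nat.card K).Coprime (orderOf w) := hord ▸ hcop.symm
  have hcw' : (Nat.card K).Coprime (orderOf (MulAut.conjNormal k w)) := by
    rwa [MulEquiv.orderOf_eq]
  obtain ⟨m, hm⟩ := exists_pow_eq_self_of_coprime hcw
  have h4 : MulAut.conjNormal k w = w := by
    have h5 := congrArg (MulAut.conjNormal k) hm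
    rw [map_pow, map_pow, Nat.card_eq_fintype_card, hfix, ← Nat.card_eq_fintype_card, hm] at h5
    exact h5.symm
  have h6 := congrArg (fun z : V => (z : G)) h4
  simp only [MulAut.conjNormal_apply, hw] at h6
  exact mul_inv_eq_iff_eq_mul.mp h6

/-- Frattini: an element outside `H` normalizes a Sylow subgroup of `H`. -/
theorem exists_notMem_normalizer {H : Subgroup G} [H.Normal] (hH : H ≠ ⊤) {q : ℕ} [Fact q.Prime]
    (Q : Sylow q H) :
    ∃ u, u ∉ H ∧ u ∈ Subgroup.normalizer (((Q : Subgroup H).map H.subtype : Subgroup G) : Set G) := by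
  by_contra h
  push Not at h
  refine hH (top_le_iff.mp ?_)
  rw [← Sylow.normalizer_sup_eq_top Q]
  exact sup_le (fun u hu => by_contra fun huH => h u huH hu) le_rfl

/-- Kegel: if `H` is normal of prime index `p` and all elements outside `H` have order `p`,
then `H` is nilpotent. -/
theorem isNilpotent_of_splitting (p : ℕ) [hp : Fact p.Prime] :
    ∀ (n : ℕ) {G : Type u} [Group G] [Finite G] (H : Subgroup G), Nat.card H = n → H.Normal →
      H.index = p → (∀ x ∉ H, x ^ p = 1) → Group.IsNilpotent H := by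
  intro n
  induction n using Nat.strong_induction_on with
  | _ n ih =>
  intro G _ _ H hn hHn hidx hout
  classical
  have hHtop : H ≠ ⊤ := fun h => by
    rw [h, Subgroup.index_top] at hidx
    exact hp.out.one_lt.ne hidx
  have hsup : ∀ {R : Subgroup G}, (∀ x ∈ H, x ∈ R) → ∀ u ∈ R, u ∉ H → R = ⊤ := by
    intro R hR u hu huH
    have h1 : R.index ∣ p := hidx ▸ Subgroup.index_dvd_of_le hR
    rcases (Nat.dvd_prime hp.out).mp h1 with h | h
    · exact Subgroup.index_eq_one.mp h
    · have h2 := Subgroup.relIndex_mul_index (H := H) (K := R) hR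
      rw [h, hidx] at h2
      have h3 : H.relIndex R = 1 := (Nat.mul_eq_right hp.out.ne_zero).mp h2
      exact absurd (Subgroup.relIndex_eq_one.mp h3 hu) huH
  -- proper invariant subgroups are nilpotent
  have hsub : ∀ M : Subgroup G, M < H → ∀ u ∉ H, u ∈ Subgroup.normalizer (M : Set G) →
      Group.IsNilpotent M := by
    intro M hM u hu hun
    let R : Subgroup G := M ⊔ Subgroup.zpowers u
    have hRn : R ≤ Subgroup.normalizer (M : Set G) :=
      sup_le Subgroup.le_normalizer ((Subgroup.zpowers_le).mpr hun)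
    have huR : u ∈ R := (le_sup_right : _ ≤ R) (Subgroup.mem_zpowers u)
    have hMR : M ≤ R := le_sup_left
    have hnor : (M.subgroupOf R).Normal := Subgroup.normal_subgroupOf_of_le_normalizer hRn
    have hcap : ∀ x ∈ R, x ∈ H → x ∈ M := by
      intro x hx hxH
      have hset : (R : Set G) = (M : Set G) * (Subgroup.zpowers u : Set G) :=
        Subgroup.coe_mul_of_right_le_normalizer_left M _ ((Subgroup.zpowers_le).mpr hun)
      rw [← SetLike.mem_coe, hset] at hx
      obtain ⟨m, hm, z, hz, rfl⟩ := hx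
      have hzH : z ∈ H := (H.mul_mem_cancel_left (hM.le hm)).mp hxH
      have hz1 : z = 1 := by
        by_contra hz1
        have hu1 : orderOf u = p := orderOf_eq_prime (hout u hu) fun h => hu (h ▸ H.one_mem)
        have : Subgroup.zpowers z = Subgroup.zpowers u := by
          refine Subgroup.eq_of_le_of_card_ge ((Subgroup.zpowers_le).mpr hz) ?_
          rw [Nat.card_zpowers, Nat.card_zpowers, hu1]
          have hd : orderOf z ∣ p := hu1 ▸ orderOf_dvd_of_mem_zpowers hz
          rcases (Nat.dvd_prime hp.out).mp hd with h | h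
          · exact absurd (orderOf_eq_one_iff.mp h) hz1
          · exact h.ge
        exact hu ((Subgroup.zpowers_le).mpr hzH (this ▸ Subgroup.mem_zpowers u))
      exact hz1.symm ▸ by simpa using hm
    have hidxR : (M.subgroupOf R).index = p := by
      have hMH : M.subgroupOf R = H.subgroupOf R := Subgroup.ext fun x =>
        ⟨fun h => hM.le h, fun h => hcap x x.2 h⟩
      rw [hMH]
      have h1 : H.relIndex R ∣ H.index := Subgroup.relIndex_dvd_index_of_normal H R
      rw [hidx] at h1
      rcases (Nat.dvd_prime hp.out).mp h1 with h | h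
      · exact absurd (Subgroup.relIndex_eq_one.mp h huR) hu
      · exact h
    have hlt : Nat.card (M.subgroupOf R) < n := by
      rw [Nat.card_congr (Subgroup.subgroupOfEquivOfLe hMR).toEquiv, ← hn]
      exact lt_of_le_of_ne (Subgroup.card_le_of_le hM.le)
        fun h => hM.ne (Subgroup.eq_of_le_of_card_ge hM.le h.ge)
    have := ih _ hlt (M.subgroupOf R) rfl hnor hidxR fun x hx =>
      Subtype.ext (hout x fun hxH => hx (hcap x x.2 hxH))
    exact Group.nilpotent_of_mulEquiv (Subgroup.subgroupOfEquivOfLe hMR)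
  -- proper quotients
  have hquot : ∀ N : Subgroup G, N.Normal → N ≤ H → N ≠ ⊥ → ∀ [N.Normal],
      Group.IsNilpotent (H.map (QuotientGroup.mk' N)) := by
    intro N _ hNH hN _
    refine ih _ ?_ (H.map (QuotientGroup.mk' N)) rfl
      (Subgroup.Normal.map hHn _ (QuotientGroup.mk'_surjective N)) ?_ ?_
    · have h1 := Subgroup.card_mul_index (N.subgroupOf H)
      rw [Nat.card_congr (Subgroup.subgroupOfEquivOfLe hNH).toEquiv, hn] at h1
      have h2 : Nat.card (H.map (QuotientGroup.mk' N)) = (N.subgroupOf H).index := by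
        rw [← Subgroup.relIndex_ker, QuotientGroup.ker_mk']
        rfl
      rw [h2, ← h1]
      have hN1 : 1 < Nat.card N := (Subgroup.one_lt_card_iff_ne_bot N).mpr hN
      have hpos : 0 < (N.subgroupOf H).index := Nat.pos_of_ne_zero Subgroup.index_ne_zero_of_finite
      exact (Nat.lt_mul_iff_one_lt_left hpos).mpr hN1
    · rw [Subgroup.index_map_eq _ (QuotientGroup.mk'_surjective N) ?_, hidx]
      rwa [QuotientGroup.ker_mk']
    · intro x hx
      obtain ⟨g, rfl⟩ := QuotientGroup.mk'_surjective N x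
      rw [← map_pow, hout g fun h => hx (Subgroup.mem_map_of_mem _ h), map_one]
  -- solvability
  have hsol : Group.IsSolvable H := by
    by_cases hN : ∃ N : Subgroup G, N.Normal ∧ N ≠ ⊥ ∧ N < H
    · obtain ⟨N, hNn, hNb, hNH⟩ := hN
      haveI := hNn
      obtain ⟨u, hu⟩ := not_forall.mp fun h => hHtop (eq_top_iff.mpr fun x _ => h x)
      have h1 : Group.IsNilpotent N := hsub N hNH u hu (by rw [Subgroup.normalizer_eq_top]; exact Subgroup.mem_top u)
      have h2 : Group.IsNilpotent (H.map (QuotientGroup.mk' N)) := hquot N hNn hNH.le hNb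
      let f := (QuotientGroup.mk' N).subgroupMap H
      refine Group.isSolvable_of_ker_le_range (Subgroup.inclusion hNH.le) f fun x hx => ?_
      have hxN : (x : G) ∈ N := (QuotientGroup.eq_one_iff _).mp (congrArg Subtype.val hx)
      exact ⟨⟨x, hxN⟩, rfl⟩
    push Not at hN
    by_cases hq : ∃ q, q.Prime ∧ q ≠ p ∧ q ≠ 2 ∧ q ∣ Nat.card H
    swap
    · push Not at hq
      by_cases hH1 : Nat.card H = 1
      · have : Subsingleton H := (Nat.card_eq_one_iff_unique.mp hH1).1
        infer_instance
      refine Char.isSolvable_of_two_primes p 2 hp.out Nat.prime_two _ H rfl fun r hr hrd => ?_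
      by_cases h : r = p
      · exact Or.inl h
      · exact Or.inr (by_contra fun h2 => hq r hr h h2 hrd)
    obtain ⟨q, hqp, hqne, hq2, hqd⟩ := hq
    haveI := Fact.mk hqp
    obtain ⟨Q⟩ : Nonempty (Sylow q H) := inferInstance
    obtain ⟨u, hu, huQ⟩ := exists_notMem_normalizer hHtop Q
    set Q' : Subgroup G := (Q : Subgroup H).map H.subtype with hQ'
    set W : Subgroup G := ZJCenter.zj 0 Q' with hW
    have hWQ : W ≤ Q' := ZJCenter.zj_le 0 Q'
    have hQH : Q' ≤ H := Subgroup.map_subtype_le _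
    have huW : u ∈ Subgroup.normalizer (W : Set G) :=
      ZJCenter.normalizer_le_normalizer_zj 0 Q' huQ
    have hQpg : IsPGroup q Q' := Q.2.map _
    have hQbot : Q' ≠ ⊥ := by
      rw [hQ', Ne, Subgroup.map_eq_bot_iff_of_injective _ H.subtype_injective]
      exact Q.ne_bot_of_dvd_card hqd
    have hWbot : W ≠ ⊥ := ZJCenter.zj_ne_bot (Or.inl rfl) hQpg hQbot
    by_cases hHW : H ≤ Subgroup.normalizer (W : Set G)
    · have hWn : W.Normal := Subgroup.normalizer_eq_top_iff.mp (hsup hHW u huW hu)
      have hWH : W = H := (eq_or_lt_of_le (hWQ.trans hQH)).resolve_right (hN W hWn hWbot)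
      have : IsPGroup q H := hQpg.to_le (hWH ▸ hWQ)
      have := this.isNilpotent
      infer_instance
    let M : Subgroup G := Subgroup.normalizer (W : Set G) ⊓ H
    have hMH : M < H := lt_of_le_of_ne inf_le_right fun h => hHW (h ▸ inf_le_left)
    have hMu : u ∈ Subgroup.normalizer (M : Set G) := by
      rw [Subgroup.mem_normalizer_iff]
      intro x
      have h1 : x ∈ Subgroup.normalizer (W : Set G) ↔ u * x * u⁻¹ ∈ Subgroup.normalizer (W : Set G) :=
        ⟨fun h => mul_mem (mul_mem huW h) (inv_mem huW), fun h => by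
          have := mul_mem (mul_mem (inv_mem huW) h) huW
          simpa [mul_assoc] using this⟩
      have h2 : x ∈ H ↔ u * x * u⁻¹ ∈ H := ⟨fun h => hHn.conj_mem x h u, fun h => by
        have := hHn.conj_mem _ h u⁻¹
        simpa [mul_assoc] using this⟩
      exact and_congr h1 h2
    have hMnil := hsub M hMH u hu hMu
    have hnc : Cfsg.HasNormalPComplement q
        (Subgroup.normalizer (ZJCenter.zj 0 (Q : Subgroup H) : Set H)) := by
      have heq : Subgroup.normalizer (ZJCenter.zj 0 (Q : Subgroup H) : Set H) = M.subgroupOf H := by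
        rw [Subgroup.inf_subgroupOf_right, hW, hQ', ← ZJCenter.zj_map H.subtype_injective]
        have h := Subgroup.comap_normalizer_eq_of_le_range
          (f := H.subtype) (H := (ZJCenter.zj 0 (Q : Subgroup H)).map H.subtype)
          (Subgroup.map_le_range _ _)
        rw [Subgroup.comap_map_eq_self_of_injective H.subtype_injective] at h
        exact h.symm
      rw [heq]
      have : Group.IsNilpotent (M.subgroupOf H) :=
        Group.nilpotent_of_mulEquiv (Subgroup.subgroupOfEquivOfLe hMH.le).symm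
      exact FGS73.MaxNil.hasNormalPComplement_of_isNilpotent
    have hH := GlaubermanThompson.hasNormalPComplement_of_normalizer_zj hq2 (Or.inl rfl) Q hnc
    let L : Subgroup G := (Cfsg.pResidual q H).map H.subtype
    have hLn : L.Normal := ConjAct.normal_of_characteristic_of_normal
    by_cases hLb : L = ⊥
    · have hres : Cfsg.pResidual q H = ⊥ :=
        (Subgroup.map_eq_bot_iff_of_injective _ H.subtype_injective).mp hLb
      have hpg : IsPGroup q H := by
        obtain ⟨j, hj⟩ := Transfer.index_pResidual_eq_pow (p := q) (G := H)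
        rw [hres, Subgroup.index_bot] at hj
        exact IsPGroup.of_card hj
      have := hpg.isNilpotent
      infer_instance
    · have hLH : L = H :=
        (eq_or_lt_of_le (Subgroup.map_subtype_le _)).resolve_right (hN L hLn hLb)
      have hres : Cfsg.pResidual q H = ⊤ := by
        apply Subgroup.map_injective H.subtype_injective
        show L = _
        rw [hLH, ← MonoidHom.range_eq_map, H.range_subtype]
      have h' := Transfer.hasNormalPComplement_iff_not_dvd.mp hH
      rw [hres, Subgroup.card_top] at h'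
      exact absurd hqd h'
  -- an abelian normal subgroup of prime power order
  by_cases hH1 : H = ⊥
  · subst hH1
    infer_instance
  obtain ⟨d, hd, hdlast⟩ : ∃ d, derivedSeries H d ≠ ⊥ ∧ derivedSeries H (d + 1) = ⊥ := by
    obtain ⟨N, hN⟩ := (Group.isSolvable_def H).mp hsol
    induction N with
    | zero =>
      rw [derivedSeries_zero] at hN
      have : Nontrivial H := (Subgroup.nontrivial_iff_ne_bot H).mpr hH1
      exact absurd hN (top_ne_bot)
    | succ N ihN =>
      by_cases h : derivedSeries H N = ⊥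
      · exact ihN h
      · exact ⟨N, h, hN⟩
  set A : Subgroup G := (derivedSeries H d).map H.subtype with hA
  have hAn : A.Normal := ConjAct.normal_of_characteristic_of_normal
  have hAc : ∀ a ∈ A, ∀ b ∈ A, a * b = b * a := by
    rintro _ ⟨a, ha, rfl⟩ _ ⟨b, hb, rfl⟩
    have h1 := Subgroup.commutator_mem_commutator ha hb
    rw [← derivedSeries_succ, hdlast, Subgroup.mem_bot, commutatorElement_eq_one_iff_mul_comm] at h1
    exact congrArg H.subtype h1
  have hAb : A ≠ ⊥ := by rwa [hA, Ne, Subgroup.map_eq_bot_iff_of_injective _ H.subtype_injective]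
  obtain ⟨q, hqp, hqd⟩ := Nat.exists_prime_and_dvd
    (ne_of_gt ((Subgroup.one_lt_card_iff_ne_bot A).mpr hAb))
  haveI := Fact.mk hqp
  obtain ⟨V0⟩ : Nonempty (Sylow q A) := inferInstance
  haveI : IsMulCommutative A := IsMulCommutative.of_setLike_mul_comm fun a ha b hb => hAc a ha b hb
  haveI hV0n : (V0 : Subgroup A).Normal := ⟨fun x hx g => by
    rw [mul_comm' g x, mul_inv_cancel_right]; exact hx⟩
  haveI : (V0 : Subgroup A).Characteristic := Sylow.characteristic_of_normal V0 hV0n
  set V : Subgroup G := (V0 : Subgroup A).map A.subtype with hV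
  haveI hVn : V.Normal := ConjAct.normal_of_characteristic_of_normal
  have hVH : V ≤ H := (Subgroup.map_subtype_le _).trans (Subgroup.map_subtype_le _)
  haveI : IsMulCommutative V := IsMulCommutative.of_setLike_mul_comm fun a ha b hb =>
    hAc a (Subgroup.map_subtype_le _ ha) b (Subgroup.map_subtype_le _ hb)
  have hVb : V ≠ ⊥ := by
    rw [hV, Ne, Subgroup.map_eq_bot_iff_of_injective _ A.subtype_injective]
    exact V0.ne_bot_of_dvd_card hqd
  have hVp : IsPGroup q V := V0.2.map _
  -- all Sylow subgroups of `H` are normal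
  refine (Group.isNilpotent_of_finite_tfae (G := H)).out 3 0 |>.mp fun r hr R => ?_
  haveI := hr
  let π := (QuotientGroup.mk' V).subgroupMap H
  have hπ : Function.Surjective π := MonoidHom.subgroupMap_surjective _ _
  have hnil : Group.IsNilpotent (H.map (QuotientGroup.mk' V)) := hquot V hVn hVH hVb
  have hRn : ((R : Subgroup H).map π).Normal :=
    Sylow.normal_of_normalizerCondition normalizerCondition_of_isNilpotent (R.mapSurjective hπ)
  have hker : π.ker = V.subgroupOf H := by
    ext x
    rw [MonoidHom.mem_ker, Subgroup.mem_subgroupOf, ← QuotientGroup.eq_one_iff (N := V) (x : G)]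
    exact ⟨fun h => congrArg Subtype.val h, fun h => Subtype.ext h⟩
  have hpre := hRn.comap π
  rw [Subgroup.comap_map_eq, hker] at hpre
  rcases eq_or_ne r q with rfl | hrq
  · have hVR : V.subgroupOf H ≤ R := by
      have hpg : IsPGroup r (V.subgroupOf H) := hVp.comap_subtype
      haveI : (V.subgroupOf H).Normal := hVn.subgroupOf H
      exact hpg.le_sylow_of_normal R
    rwa [sup_eq_left.mpr hVR] at hpre
  obtain ⟨u, hu, huR⟩ := exists_notMem_normalizer hHtop R
  have hcopv : ∀ v ∈ V, (orderOf v).Coprime (Nat.card R) := by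
    intro v hv
    obtain ⟨i, hi⟩ := (IsPGroup.iff_orderOf.mp hVp) ⟨v, hv⟩
    obtain ⟨j, hj⟩ := IsPGroup.iff_card.mp R.2
    rw [Subgroup.orderOf_mk] at hi
    rw [hi, hj]
    exact Nat.Coprime.pow _ _ ((Nat.coprime_primes hqp (Fact.out : r.Prime)).mpr hrq.symm)
  have hcomm : ∀ a ∈ (R : Subgroup H), ∀ v ∈ V, (a : G) * v = v * a := by
    intro a ha v hv
    refine commute_of_coprime hout hVH (K := (R : Subgroup H).map H.subtype)
      (Subgroup.map_subtype_le _) hu huR hv ?_ (Subgroup.mem_map_of_mem _ ha)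
    rw [Subgroup.card_map_of_injective H.subtype_injective]
    exact hcopv v hv
  refine ⟨fun x hx g => ?_⟩
  have h1 := hpre.conj_mem x (Subgroup.mem_sup_left hx) g
  haveI : (V.subgroupOf H).Normal := hVn.subgroupOf H
  rw [← SetLike.mem_coe, Subgroup.mul_normal] at h1
  obtain ⟨a, ha, b, hb, hab⟩ := h1
  obtain ⟨i, hi⟩ := R.2 ⟨x, hx⟩
  obtain ⟨j, hj⟩ := R.2 ⟨a, ha⟩
  have hx' : x ^ r ^ i = 1 := congrArg Subtype.val hi
  have ha' : a ^ r ^ j = 1 := congrArg Subtype.val hj
  have hcm : Commute a b := Subtype.ext (hcomm a ha b hb)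
  have hpow : (g * x * g⁻¹) ^ r ^ (i + j) = 1 := by
    rw [conj_pow, pow_add, pow_mul, hx', one_pow, mul_one, mul_inv_cancel]
  rw [← hab, hcm.mul_pow, pow_add, mul_comm (r ^ i), pow_mul, ha', one_pow, one_mul] at hpow
  have hb1 : b = 1 := by
    obtain ⟨k, hk⟩ := (IsPGroup.iff_orderOf.mp hVp) ⟨(b : G), hb⟩
    replace hk : orderOf (b : G) = q ^ k :=
      (Subgroup.orderOf_coe (H := V) ⟨(b : G), hb⟩).trans hk
    have hd1 : orderOf (b : G) ∣ r ^ j * r ^ i :=
      orderOf_dvd_of_pow_eq_one (congrArg Subtype.val hpow)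
    rw [hk, ← pow_add] at hd1
    have : q ^ k = 1 := Nat.eq_one_of_dvd_coprimes
      (Nat.Coprime.pow _ _ ((Nat.coprime_primes (Fact.out : r.Prime) hqp).mpr hrq)) hd1 dvd_rfl
    exact Subtype.ext (orderOf_eq_one_iff.mp (hk.trans this))
  rw [← hab]
  show a * b ∈ (R : Subgroup H)
  rw [hb1, mul_one]
  exact ha

/-- Hughes–Thompson: the Hughes subgroup of a group that is not a `p`-group has index `p`. -/
theorem index_eq_prime {p : ℕ} [hp : Fact p.Prime] (hG : ¬ IsPGroup p G) {H : Subgroup G}
    [H.Normal] (hH : H ≠ ⊤) (hout : ∀ x ∉ H, x ^ p = 1) : H.index = p := by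
  classical
  have hquo : IsPGroup p (G ⧸ H) := fun x => by
    obtain ⟨g, rfl⟩ := QuotientGroup.mk'_surjective H x
    by_cases hg : g ∈ H
    · exact ⟨0, by simpa using (QuotientGroup.eq_one_iff g).mpr hg⟩
    · exact ⟨1, by rw [← map_pow, pow_one, hout g hg, map_one]⟩
  obtain ⟨k, hk⟩ := IsPGroup.iff_card.mp hquo
  rw [Subgroup.index, hk]
  rcases Nat.lt_or_ge k 2 with hk2 | hk2
  · interval_cases k
    · rw [pow_zero] at hk
      exact absurd (Subgroup.index_eq_one.mp hk) hH
    · rw [pow_one]
  exfalso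
  obtain ⟨x, hx⟩ : ∃ x : G, ∀ j : ℕ, x ^ p ^ j ≠ 1 := by
    simpa [IsPGroup] using hG
  obtain ⟨q, hqp, hqd, hqne⟩ : ∃ q, q.Prime ∧ q ∣ orderOf x ∧ q ≠ p := by
    by_contra h
    push Not at h
    have h1 := Nat.eq_prime_pow_of_unique_prime_dvd (orderOf_pos x).ne' (fun {d} hd hdd => h d hd hdd)
    exact hx _ (by rw [← h1, pow_orderOf_eq_one])
  haveI := Fact.mk hqp
  obtain ⟨Q⟩ : Nonempty (Sylow q G) := inferInstance
  have hqel : ∀ y ∈ (Q : Subgroup G), y ∈ H := by
    intro y hy
    by_contra hyH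
    obtain ⟨i, hi⟩ := Q.2 ⟨y, hy⟩
    have h1 : y ^ q ^ i = 1 := congrArg Subtype.val hi
    have h2 : orderOf y = 1 := Nat.eq_one_of_dvd_coprimes
      (((Nat.coprime_primes hqp hp.out).mpr hqne).pow_left i)
      (orderOf_dvd_of_pow_eq_one h1) (orderOf_dvd_of_pow_eq_one (hout y hyH))
    exact hyH (orderOf_eq_one_iff.mp h2 ▸ H.one_mem)
  have hQbot : (Q : Subgroup G) ≠ ⊥ := Q.ne_bot_of_dvd_card (hqd.trans (orderOf_dvd_natCard x))
  set V : Subgroup G := (Q : Subgroup G) ⊓ Subgroup.centralizer ((Q : Subgroup G) : Set G) with hV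
  set N := Subgroup.normalizer (V : Set G) with hN
  have hNQ : Subgroup.normalizer ((Q : Subgroup G) : Set G) ≤ N := by
    intro g hg
    rw [hN, Subgroup.mem_normalizer_iff]
    intro y
    have hmem := Subgroup.mem_normalizer_iff.mp hg
    refine and_congr (hmem y) ?_
    simp only [SetLike.mem_coe, Subgroup.mem_centralizer_iff]
    constructor
    · intro h z hz
      have hz' := (Subgroup.mem_normalizer_iff''.mp hg z).mp hz
      have := congrArg (fun w => g * w * g⁻¹) (h _ hz')
      simpa [mul_assoc] using this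
    · intro h z hz
      have := congrArg (fun w => g⁻¹ * w * g) (h _ ((hmem z).mp hz))
      simpa [mul_assoc] using this
  -- the normalizer covers the quotient
  have hcover : ∀ z : G ⧸ H, ∃ g ∈ N, QuotientGroup.mk' H g = z := by
    intro z
    obtain ⟨g, rfl⟩ := QuotientGroup.mk'_surjective H z
    let QH : Sylow q H := Q.subtype fun y hy => hqel y hy
    have h := Sylow.normalizer_sup_eq_top QH
    have hQH : (QH : Subgroup H).map H.subtype = (Q : Subgroup G) := by
      simp [QH, Sylow.coe_subtype, Subgroup.map_subgroupOf_eq_of_le (fun y hy => hqel y hy : (Q : Subgroup G) ≤ H)]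
    rw [hQH] at h
    have hg : g ∈ Subgroup.normalizer ((Q : Subgroup G) : Set G) ⊔ H := h ▸ Subgroup.mem_top g
    rw [← SetLike.mem_coe, Subgroup.mul_normal] at hg
    obtain ⟨a, ha, b, hb, rfl⟩ := hg
    exact ⟨a, hNQ ha, ((QuotientGroup.eq_iff_div_mem).mpr (by
      rw [div_eq_mul_inv, mul_inv_rev, ← mul_assoc]
      exact ‹H.Normal›.conj_mem _ (inv_mem hb) a))⟩
  let φ : N →* G ⧸ H := (QuotientGroup.mk' H).comp N.subtype
  have hφ : Function.Surjective φ := fun z => by
    obtain ⟨g, hg, rfl⟩ := hcover z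
    exact ⟨⟨g, hg⟩, rfl⟩
  obtain ⟨P⟩ : Nonempty (Sylow p N) := inferInstance
  have hPmap : (P : Subgroup N).map φ = ⊤ :=
    ((P.mapSurjective hφ).3 (IsPGroup.to_subgroup hquo ⊤) le_top).symm
  -- a maximal subgroup above `H`
  obtain ⟨B, hB⟩ := Sylow.exists_subgroup_card_pow_prime p
    (show p ^ (k - 1) ∣ Nat.card (G ⧸ H) from hk ▸ pow_dvd_pow p (Nat.sub_le k 1))
  have hBtop : B ≠ ⊤ := fun h => by
    rw [h, Subgroup.card_top, hk] at hB
    have := Nat.pow_right_injective hp.out.two_le hB
    omega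
  have hBbot : B ≠ ⊥ := fun h => by
    rw [h, Subgroup.card_bot] at hB
    have := (Nat.one_lt_pow (by omega : k - 1 ≠ 0) hp.out.one_lt)
    omega
  haveI : B.Normal := by
    refine Subgroup.normal_of_index_eq_minFac_card ?_
    have h1 := Subgroup.card_mul_index B
    rw [hB, hk] at h1
    rw [hk, Nat.pow_minFac (by omega), hp.out.minFac_eq]
    have : p ^ (k - 1) * B.index = p ^ (k - 1) * p := by
      rw [h1, ← pow_succ, Nat.sub_add_cancel (by omega)]
    exact Nat.eq_of_mul_eq_mul_left (pow_pos hp.out.pos _) this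
  set H' : Subgroup N := B.comap φ with hH'
  haveI : H'.Normal := Subgroup.normal_comap φ
  obtain ⟨a, haP, haB, ha1⟩ : ∃ a ∈ (P : Subgroup N), φ a ∈ B ∧ φ a ≠ 1 := by
    obtain ⟨z, hz, hz1⟩ := B.bot_or_exists_ne_one.resolve_left hBbot
    obtain ⟨a, ha, rfl⟩ := (Subgroup.mem_map).mp (hPmap ▸ Subgroup.mem_top z)
    exact ⟨a, ha, hz, hz1⟩
  obtain ⟨u, huP, huB⟩ : ∃ u ∈ (P : Subgroup N), φ u ∉ B := by
    obtain ⟨z, hz⟩ := not_forall.mp fun h => hBtop (eq_top_iff.mpr fun z _ => h z)
    obtain ⟨u, hu, rfl⟩ := (Subgroup.mem_map).mp (hPmap ▸ Subgroup.mem_top z)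
    exact ⟨u, hu, hz⟩
  have hout' : ∀ y : N, y ∉ H' → y ^ p = 1 := fun y hy => by
    refine Subtype.ext (hout y fun hyH => hy ?_)
    show φ y ∈ B
    rw [show φ y = 1 from (QuotientGroup.eq_one_iff _).mpr hyH]
    exact one_mem B
  have haH : (a : G) ∉ H := fun h => ha1 ((QuotientGroup.eq_one_iff _).mpr h)
  have hVN : V ≤ N := Subgroup.le_normalizer
  let V' : Subgroup N := V.subgroupOf N
  haveI : V'.Normal := Subgroup.normal_in_normalizer
  haveI : IsMulCommutative V' := IsMulCommutative.of_setLike_mul_comm fun y hy z hz =>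
    Subtype.ext ((Subgroup.mem_centralizer_iff.mp hy.2 _ hz.1).symm)
  have hV'H : V' ≤ H' := fun y hy => by
    show φ y ∈ B
    rw [show φ y = 1 from (QuotientGroup.eq_one_iff _).mpr (hqel _ hy.1)]
    exact one_mem B
  have hnorm : u ∈ Subgroup.normalizer (((P : Subgroup N) ⊓ H' : Subgroup N) : Set N) := by
    rw [Subgroup.mem_normalizer_iff]
    intro y
    refine and_congr (a := y ∈ (P : Subgroup N)) (c := u * y * u⁻¹ ∈ (P : Subgroup N))
      ⟨fun h => mul_mem (mul_mem huP h) (inv_mem huP), fun h => ?_⟩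
      ⟨fun h => ‹H'.Normal›.conj_mem _ h u, fun h => ?_⟩
    · have := mul_mem (mul_mem (inv_mem huP) h) huP
      simpa [mul_assoc] using this
    · have := ‹H'.Normal›.conj_mem _ h u⁻¹
      simpa [mul_assoc] using this
  -- a nontrivial element of `V`
  have hQpg : IsPGroup q (Q : Subgroup G) := Q.2
  obtain ⟨v, hv, hv1⟩ : ∃ v ∈ V, v ≠ 1 := by
    haveI : Nontrivial (Q : Subgroup G) := (Subgroup.nontrivial_iff_ne_bot _).mpr hQbot
    haveI := hQpg.center_nontrivial
    obtain ⟨c, hc⟩ := exists_ne (1 : Subgroup.center (Q : Subgroup G))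
    refine ⟨((c : (Q : Subgroup G)) : G), ⟨(c : (Q : Subgroup G)).2,
      Subgroup.mem_centralizer_iff.mpr fun z hz => ?_⟩, fun h => hc (Subtype.ext (Subtype.ext h))⟩
    exact congrArg Subtype.val (Subgroup.mem_center_iff.mp c.2 ⟨z, hz⟩)
  obtain ⟨i, hi⟩ := IsPGroup.iff_orderOf.mp Q.2 ⟨v, hv.1⟩
  rw [Subgroup.orderOf_mk] at hi
  obtain ⟨j, hj⟩ := IsPGroup.iff_card.mp (P.2.to_le (inf_le_left : (P : Subgroup N) ⊓ H' ≤ P))
  have hcop : (orderOf (⟨v, hVN hv⟩ : N)).Coprime (Nat.card ((P : Subgroup N) ⊓ H' : Subgroup N)) := by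
    rw [Subgroup.orderOf_mk, hi, hj]
    exact Nat.Coprime.pow _ _ ((Nat.coprime_primes hqp hp.out).mpr hqne)
  have hcm := commute_of_coprime (H := H') hout' (V := V') hV'H (inf_le_right) huB hnorm
    (v := ⟨v, hVN hv⟩) hv hcop (k := a) ⟨haP, haB⟩
  have hcm' : Commute v (a : G) := (congrArg Subtype.val hcm).symm
  have h1 : (v * (a : G)) ^ p = 1 := hout _ fun h => haH ((H.mul_mem_cancel_left (hqel v hv.1)).mp h)
  rw [hcm'.mul_pow, hout _ haH, mul_one] at h1
  exact hv1 (orderOf_eq_one_iff.mp (Nat.eq_one_of_dvd_coprimes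
    (((Nat.coprime_primes hqp hp.out).mpr hqne).pow_left i) (hi ▸ dvd_rfl)
    (orderOf_dvd_of_pow_eq_one h1)))

end CfsgLib.Hughes
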